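import Cfsg.Agent.Char.Integrality
import Cfsg.Agent.Char.Kernel
import Cfsg.Agent.Char.Linear
import Cfsg.Agent.Char.InvolutionCount
import Cfsg.Agent.S0840

/-!
# A Sylow 3-subgroup of order 9 containing the centraliser of each of its non-identity elements
-/

set_option autoImplicit false
set_option linter.unusedSectionVars false

namespace Cfsg.Agent.ThreeNine

open Cfsg Cfsg.Agent Subgroup
open scoped Classical ComplexConjugate

universe u

variable {G : Type u} [Group G] [Finite G]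

/-- `S` is a Sylow 3-subgroup, elementary of order 9, and the centraliser of each non-identity
element of it. -/
structure Nine (S : Subgroup G) : Prop where
  card : Nat.card S = 9
  exp3 : ∀ a ∈ S, a ^ 3 = 1
  sylow : ∃ P : Sylow 3 G, (P : Subgroup G) = S
  cent : ∀ s ∈ S, s ≠ 1 → centralizer ({s} : Set G) = S

variable {S : Subgroup G}

theorem Nine.mem_of_commute (h : Nine S) {s x : G} (hs : s ∈ S) (hs1 : s ≠ 1)
    (hx : Commute x s) : x ∈ S := by
  rw [← h.cent s hs hs1, mem_centralizer_singleton_iff]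
  exact hx.eq

theorem Nine.commute (h : Nine S) {a b : G} (ha : a ∈ S) (hb : b ∈ S) : Commute a b := by
  by_cases hb1 : b = 1
  · exact hb1 ▸ Commute.one_right a
  · rw [← h.cent b hb hb1, mem_centralizer_singleton_iff] at ha
    exact ha

/-- A 3-subgroup is conjugate into `S`. -/
theorem Nine.conj_le (h : Nine S) {K : Subgroup G} (hK : IsPGroup 3 K) :
    ∃ g : G, ∀ k ∈ K, g * k * g⁻¹ ∈ S := by
  haveI : Fact (Nat.Prime 3) := ⟨Nat.prime_three⟩
  obtain ⟨P, hP⟩ := h.sylow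
  obtain ⟨Q, hQ⟩ := hK.exists_le_sylow
  obtain ⟨g, hg⟩ := MulAction.exists_smul_eq G Q P
  refine ⟨g, fun k hk => ?_⟩
  rw [← hP, ← hg, Sylow.coe_subgroup_smul]
  refine ⟨k, hQ hk, ?_⟩
  simp

theorem Nine.isPGroup_zpowers {x : G} (hx : x ^ 3 = 1) : IsPGroup 3 (zpowers x) := by
  rintro ⟨y, hy⟩
  obtain ⟨k, rfl⟩ := mem_zpowers_iff.1 hy
  refine ⟨1, Subtype.ext ?_⟩
  show (x ^ k) ^ (3 ^ 1) = 1
  rw [pow_one, ← zpow_natCast (x ^ k), zpow_comm, zpow_natCast, hx, one_zpow]

theorem Nine.conj_mem (h : Nine S) {x : G} (hx : x ^ 3 = 1) : ∃ g : G, g * x * g⁻¹ ∈ S :=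
  (h.conj_le (Nine.isPGroup_zpowers hx)).imp fun _ hg => hg x (mem_zpowers x)

/-- The centraliser of an element of order 3 has exponent 3. -/
theorem Nine.pow_three_of_commute (h : Nine S) {x m : G} (hx : x ^ 3 = 1) (hx1 : x ≠ 1)
    (hm : Commute m x) : m ^ 3 = 1 := by
  obtain ⟨g, hg⟩ := h.conj_mem hx
  have hmem : g * m * g⁻¹ ∈ S := h.mem_of_commute hg (fun e => hx1 (by
    rw [mul_inv_eq_one] at e
    exact mul_left_cancel (e.trans (mul_one g).symm))) ((Commute.conj_iff g).2 hm)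
  have := h.exp3 _ hmem
  rw [conj_pow] at this
  rwa [mul_inv_eq_one, mul_eq_left] at this

theorem Nine.pgroup_commute (h : Nine S) {K : Subgroup G} (hK : IsPGroup 3 K) {a b : G}
    (ha : a ∈ K) (hb : b ∈ K) : Commute a b := by
  obtain ⟨g, hg⟩ := h.conj_le hK
  exact (Commute.conj_iff g).1 (h.commute (hg a ha) (hg b hb))

/-- Fusion in `S` happens in its normaliser. -/
theorem Nine.fusion (h : Nine S) {s g : G} (hs : s ∈ S) (hs1 : s ≠ 1)
    (ht : g * s * g⁻¹ ∈ S) : g ∈ normalizer (S : Set G) := by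
  have ht1 : g * s * g⁻¹ ≠ 1 := fun e => hs1 (by
    rw [mul_inv_eq_one] at e
    exact mul_left_cancel (e.trans (mul_one g).symm))
  refine mem_normalizer_iff.2 fun a => ⟨fun ha => ?_, fun ha => ?_⟩
  · exact h.mem_of_commute ht ht1 ((Commute.conj_iff g).2 (h.commute ha hs))
  · exact h.mem_of_commute hs hs1 ((Commute.conj_iff g).1 (h.commute ha ht))

theorem inv_pow_three {x : G} : (x ^ 3)⁻¹ = x⁻¹ * x⁻¹ * x⁻¹ := by group

/-- Two elements of order 3 with product of order 3 commute, unless all three are conjugate. -/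
theorem Nine.triangle (h : Nine S) {x y : G} (hx : x ^ 3 = 1) (hy : y ^ 3 = 1)
    (hxy : (x * y) ^ 3 = 1) (hne : ¬ Commute x y) : IsConj x⁻¹ (x * y) := by
  have hx1 : x ≠ 1 := fun e => hne (e ▸ Commute.one_left y)
  have hx' : x⁻¹ = x * x := inv_eq_of_mul_eq_one_left (by rw [← pow_two, ← pow_succ, hx])
  have hy' : y⁻¹ = y * y := inv_eq_of_mul_eq_one_left (by rw [← pow_two, ← pow_succ, hy])
  set a := x⁻¹ * y with ha
  set b := y * x⁻¹ with hb
  set c := x * y * x⁻¹ * x⁻¹ with hc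
  have hab' : x * a * x⁻¹ = b := by rw [ha, hb]; group
  have hbc : x * b * x⁻¹ = c := by rw [hb, hc]; group
  have habc : a * b * c = 1 := by
    have e1 : a * b * c = x⁻¹ * y ^ 3 * x⁻¹ * x⁻¹ := by rw [ha, hb, hc, pow_succ, pow_two]; group
    rw [e1, hy, mul_one, ← inv_pow_three, hx, inv_one]
  have hcomm : a * b = b * a := by
    have e1 : y * x * y = x⁻¹ * y⁻¹ * x⁻¹ := by
      have e2 : x * y * (x * y) * (x * y) = 1 := by rw [← pow_two, ← pow_succ, hxy]
      calc y * x * y = x⁻¹ * (x * y * (x * y) * (x * y)) * y⁻¹ * x⁻¹ := by group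
        _ = _ := by rw [e2]; group
    calc a * b = x⁻¹ * (y * y) * x⁻¹ := by rw [ha, hb]; group
      _ = x⁻¹ * y⁻¹ * x⁻¹ := by rw [hy']
      _ = y * x * y := e1.symm
      _ = y * (x⁻¹ * x⁻¹) * y := by
        rw [show x⁻¹ * x⁻¹ = (x * x)⁻¹ from (mul_inv_rev _ _).symm, ← hx', inv_inv]
      _ = b * a := by rw [ha, hb]; group
  set M := closure ({a, b} : Set G) with hM
  have haM : a ∈ M := subset_closure (by simp)
  have hbM : b ∈ M := subset_closure (by simp)
  have hcM : c ∈ M := by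
    rw [show c = (a * b)⁻¹ from eq_inv_of_mul_eq_one_right habc]
    exact M.inv_mem (M.mul_mem haM hbM)
  have hMab : ∀ u ∈ M, ∀ v ∈ M, Commute u v := by
    have hle : M ≤ centralizer ({a, b} : Set G) := by
      rw [hM, closure_le]
      rintro u (rfl | rfl)
      · exact mem_centralizer_iff.2 (by rintro v (rfl | rfl) <;> [rfl; exact hcomm.symm])
      · exact mem_centralizer_iff.2 (by rintro v (rfl | rfl) <;> [exact hcomm; rfl])
    intro u hu v hv
    rw [← centralizer_closure] at hle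
    exact (mem_centralizer_iff.1 (hle hv) u hu)
  have hMx : ∀ u ∈ M, x * u * x⁻¹ ∈ M := by
    have hle : M ≤ M.comap (MulAut.conj x).toMonoidHom := by
      conv_lhs => rw [hM]
      rw [closure_le]
      rintro u (rfl | rfl)
      · show x * a * x⁻¹ ∈ M; rw [hab']; exact hbM
      · show x * b * x⁻¹ ∈ M; rw [hbc]; exact hcM
    exact fun u hu => hle hu
  have hMx' : ∀ u ∈ M, x⁻¹ * u * x ∈ M := fun u hu => by
    have hxx : (x * x)⁻¹ = x := by rw [← hx', inv_inv]
    rw [show x⁻¹ * u * x = x * (x * u * x⁻¹) * x⁻¹ by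
      calc x⁻¹ * u * x = x * x * u * (x * x)⁻¹ := by rw [hxx, ← hx']
        _ = _ := by group]
    exact hMx _ (hMx u hu)
  by_cases h3 : ∃ z ∈ M, z ^ 3 = 1 ∧ z ≠ 1
  · exfalso
    obtain ⟨z, hzM, hz, hz1⟩ := h3
    apply hne
    have hMp : IsPGroup 3 M := fun u => ⟨1, Subtype.ext (by
      simpa using h.pow_three_of_commute hz hz1 (hMab u u.2 z hzM))⟩
    haveI : Fact (Nat.Prime 3) := ⟨Nat.prime_three⟩
    have hnorm : zpowers x ≤ normalizer (M : Set G) := zpowers_le.2 (mem_normalizer_iff.2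
      fun u => ⟨hMx u, fun hu => by simpa [mul_assoc] using hMx' _ hu⟩)
    have hK := hMp.to_sup_of_normal_left' (Nine.isPGroup_zpowers hx) hnorm
    exact h.pgroup_commute hK (mem_sup_right (mem_zpowers x)) (by
      rw [show y = x * a by rw [ha, mul_inv_cancel_left]]
      exact mul_mem (mem_sup_right (mem_zpowers x)) (mem_sup_left haM))
  -- `x⁻¹` is conjugate to every element of `M x⁻¹`
  push Not at h3
  let F : M → M := fun m => ⟨(m : G) * (x⁻¹ * (m : G)⁻¹ * x), M.mul_mem m.2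
    (hMx' _ (M.inv_mem m.2))⟩
  have hFinj : Function.Injective F := by
    intro u v huv
    have h1 : (u : G) * x⁻¹ * (u : G)⁻¹ = (v : G) * x⁻¹ * (v : G)⁻¹ := by
      have := congrArg (fun w : M => (w : G) * x⁻¹) huv
      simpa [F, mul_assoc] using this
    have h2 : Commute ((v : G)⁻¹ * u) x⁻¹ := by
      show (v : G)⁻¹ * u * x⁻¹ = x⁻¹ * ((v : G)⁻¹ * u)
      calc (v : G)⁻¹ * u * x⁻¹ = (v : G)⁻¹ * ((u : G) * x⁻¹ * (u : G)⁻¹) * u := by group
        _ = _ := by rw [h1]; group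
    have h4 : (v : G)⁻¹ * u = 1 := h3 _ (M.mul_mem (M.inv_mem v.2) u.2)
      (h.pow_three_of_commute hx hx1 (by simpa using h2.inv_right))
    exact Subtype.ext ((inv_mul_eq_one.1 h4).symm)
  haveI : Finite M := inferInstance
  obtain ⟨m, hm⟩ := (Finite.injective_iff_surjective.1 hFinj) ⟨c, hcM⟩
  refine isConj_iff.2 ⟨m, ?_⟩
  have hm' : (m : G) * (x⁻¹ * (m : G)⁻¹ * x) = c := congrArg Subtype.val hm
  calc (m : G) * x⁻¹ * (m : G)⁻¹ = (m : G) * (x⁻¹ * (m : G)⁻¹ * x) * x⁻¹ := by group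
    _ = x * y * (x⁻¹ * x⁻¹ * x⁻¹) := by rw [hm', hc]; group
    _ = x * y := by rw [← inv_pow_three, hx, inv_one, mul_one]

end Cfsg.Agent.ThreeNine
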