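import Cfsg.Agent.ThreeNine.Local

/-!
# Coordinates, classes and character values at the Sylow 3-subgroup of order 9
-/

set_option autoImplicit false
set_option linter.unusedSectionVars false

namespace Cfsg.Agent.ThreeNine

open Cfsg Cfsg.Agent Subgroup
open scoped Classical ComplexConjugate

universe u

variable {G : Type u} [Group G] [Finite G] {S : Subgroup G}

/-- Coordinates on `S`. -/
def coord (e f : G) (p : Fin 3 × Fin 3) : G := e ^ (p.1 : ℕ) * f ^ (p.2 : ℕ)

theorem coord_add (h : Nine S) {e f : G} (he : e ∈ S) (hf : f ∈ S) (p q : Fin 3 × Fin 3) :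
    coord e f (p + q) = coord e f p * coord e f q := by
  have hc : Commute (f ^ (p.2 : ℕ)) (e ^ (q.1 : ℕ)) := (h.commute hf he).pow_pow _ _
  have hpow : ∀ {x : G}, x ∈ S → ∀ a b : Fin 3, x ^ ((a + b : Fin 3) : ℕ) = x ^ ((a : ℕ) + b) := by
    intro x hx a b
    rw [Fin.val_add]
    exact (pow_eq_pow_mod _ (h.exp3 x hx)).symm
  simp only [coord, Prod.fst_add, Prod.snd_add, hpow he, hpow hf, pow_add]
  calc e ^ (p.1 : ℕ) * e ^ (q.1 : ℕ) * (f ^ (p.2 : ℕ) * f ^ (q.2 : ℕ))
      = e ^ (p.1 : ℕ) * (e ^ (q.1 : ℕ) * f ^ (p.2 : ℕ)) * f ^ (q.2 : ℕ) := by group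
    _ = _ := by rw [← hc.eq]; group

theorem coord_zero (e f : G) : coord e f 0 = 1 := by simp [coord]

theorem coord_neg (h : Nine S) {e f : G} (he : e ∈ S) (hf : f ∈ S) (p : Fin 3 × Fin 3) :
    coord e f (-p) = (coord e f p)⁻¹ :=
  eq_inv_of_mul_eq_one_left (by rw [← coord_add h he hf, neg_add_cancel, coord_zero])

theorem coord_mem {e f : G} (he : e ∈ S) (hf : f ∈ S) (p : Fin 3 × Fin 3) : coord e f p ∈ S :=
  S.mul_mem (S.pow_mem he _) (S.pow_mem hf _)

theorem coord_bijective (h : Nine S) {e f : G} (he : e ∈ S) (hf : f ∈ S) (he1 : e ≠ 1)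
    (hf1 : f ≠ 1) (hfe : f ≠ e) (hfe' : f ≠ e⁻¹) :
    Function.Bijective (fun p => (⟨coord e f p, coord_mem he hf p⟩ : S)) := by
  have he3 := h.exp3 e he
  have hf3 := h.exp3 f hf
  have hker : ∀ p, coord e f p = 1 → p = 0 := by
    rintro ⟨i, j⟩ hp
    simp only [coord] at hp
    have e2 : e ^ 2 = e⁻¹ := eq_inv_of_mul_eq_one_left (by rw [← pow_succ, he3])
    have f2 : f ^ 2 = f⁻¹ := eq_inv_of_mul_eq_one_left (by rw [← pow_succ, hf3])
    fin_cases i <;> fin_cases j <;> simp [e2, f2] at hp ⊢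
    all_goals first
      | exact hf1 hp
      | exact he1 hp
      | exact hfe (by simpa using (eq_inv_of_mul_eq_one_right hp))
      | exact hfe' (eq_inv_of_mul_eq_one_right hp)
      | exact hfe (mul_inv_eq_one.1 hp).symm
      | exact hfe (inv_mul_eq_one.1 hp).symm
      | exact hfe' (inv_injective (eq_inv_of_mul_eq_one_right hp))
  have hinj : Function.Injective (fun p => (⟨coord e f p, coord_mem he hf p⟩ : S)) := by
    intro p q hpq
    have hpq' : coord e f p = coord e f q := congrArg Subtype.val hpq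
    refine sub_eq_zero.1 (hker _ ?_)
    rw [sub_eq_add_neg, coord_add h he hf, coord_neg h he hf, hpq', mul_inv_cancel]
  letI := Fintype.ofFinite S
  exact (Fintype.bijective_iff_injective_and_card _).2 ⟨hinj, by
    rw [← Nat.card_eq_fintype_card, ← Nat.card_eq_fintype_card, h.card]; simp⟩

/-- Every element of order 3 is real when one of the elements inverts `S`. -/
theorem Nine.real (h : Nine S) (hinv : ∀ s ∈ S, IsConj s s⁻¹) {x : G} (hx : x ^ 3 = 1) :
    IsConj x x⁻¹ := by
  obtain ⟨g, hg⟩ := h.conj_mem hx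
  have h1 : IsConj x (g * x * g⁻¹) := isConj_iff.2 ⟨g, rfl⟩
  refine (h1.trans (hinv _ hg)).trans (isConj_iff.2 ⟨g⁻¹, ?_⟩)
  group

/-- Character values at real elements of order 3 are integers congruent to the degree. -/
theorem value_three {χ : G → ℂ} (hχ : IsCharacter G χ) {x : G} (hx : x ^ 3 = 1)
    (hreal : IsConj x x⁻¹) {d : ℕ} (hd : χ 1 = d) :
    ∃ a : ℤ, χ x = a ∧ (a - d) % 3 = 0 := by
  obtain ⟨n, ρ, rfl⟩ := hχ
  obtain ⟨ε, hε, hpow⟩ := Char.exists_character_eq_sum_roots ρ x
  have hr : (starRingEnd ℂ) (ρ.character x) = ρ.character x := by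
    rw [← Char.character_inv]
    exact (Char.isClassFunction_eq_of_isConj
      (Char.isCharacter_isClassFunction (Char.isCharacter_character ρ)) hreal).symm
  have hcases : ∀ i, ε i = 1 ∨ (ε i).re = -(1 / 2) := by
    intro i
    have h3 : ε i ^ 3 = 1 := by
      obtain ⟨k, hk⟩ := orderOf_dvd_of_pow_eq_one hx
      rw [hk, pow_mul, hε i, one_pow]
    by_cases h1 : ε i = 1
    · exact Or.inl h1
    right
    have h2 : ε i ^ 2 + ε i + 1 = 0 := by
      have : (ε i - 1) * (ε i ^ 2 + ε i + 1) = 0 := by linear_combination h3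
      exact (mul_eq_zero.1 this).resolve_left (sub_ne_zero.2 h1)
    have h4 : (ε i + (ε i)⁻¹) = -1 := by
      have h0 : ε i ≠ 0 := fun h0 => by simp [h0] at h3
      field_simp
      linear_combination h2
    have h5 := Complex.norm_eq_one_of_pow_eq_one h3 (by norm_num)
    rw [Complex.inv_eq_conj h5, Complex.add_conj] at h4
    have h6 := congrArg Complex.re h4
    simp at h6
    linarith
  set k := (Finset.univ.filter fun i => ε i = 1).card with hk
  have hre : (ρ.character x).re = k - ((Module.finrank ℂ (Fin n → ℂ) : ℝ) - k) / 2 := by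
    have := hpow 1
    simp only [pow_one] at this
    rw [this, Complex.re_sum, ← Finset.sum_filter_add_sum_filter_not Finset.univ (fun i => ε i = 1),
      Finset.sum_congr rfl (fun i hi => show (ε i).re = 1 by
        rw [(Finset.mem_filter.1 hi).2, Complex.one_re]),
      Finset.sum_congr rfl (fun i hi => (hcases i).resolve_left (Finset.mem_filter.1 hi).2)]
    have hcard := Finset.card_filter_add_card_filter_not (s := Finset.univ) (fun i => ε i = 1)
    rw [Finset.card_univ, Fintype.card_fin] at hcard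
    simp only [Finset.sum_const, nsmul_eq_mul, mul_one]
    rw [← hk] at hcard ⊢
    have hc' : (k : ℝ) + ((Finset.univ.filter fun i => ¬ ε i = 1).card : ℝ) =
        (Module.finrank ℂ (Fin n → ℂ) : ℝ) := by exact_mod_cast hcard
    linarith
  rw [ρ.char_one, Nat.cast_inj] at hd
  rw [hd] at hre
  have hq : ρ.character x = ((((3 * (k : ℤ) - d : ℤ) : ℚ) / 2 : ℚ) : ℂ) := by
    have him : (ρ.character x).im = 0 := Complex.conj_eq_iff_im.1 hr
    refine Complex.ext ?_ ?_
    · rw [hre]; push_cast; simp; ring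
    · rw [him]; push_cast; simp
  obtain ⟨a, ha⟩ := Char.exists_int_of_isIntegral_rat
    (q := ((3 * (k : ℤ) - d : ℤ) : ℚ) / 2) (hq ▸ Char.character_isIntegral ρ x)
  refine ⟨a, by rw [hq, ha]; norm_num, ?_⟩
  rw [div_eq_iff (by norm_num)] at ha
  have : 3 * (k : ℤ) - d = a * 2 := by exact_mod_cast ha
  omega

/-- The sum of a character over `S` is divisible by 9. -/
theorem sum_dvd (h : Nine S) {χ : G → ℂ} (hχ : IsCharacter G χ) {e f : G} (he : e ∈ S)
    (hf : f ∈ S) (hb : Function.Bijective (fun p => (⟨coord e f p, coord_mem he hf p⟩ : S))) :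
    ∃ m : ℕ, ∑ p : Fin 3 × Fin 3, χ (coord e f p) = 9 * (m : ℂ) := by
  letI := Fintype.ofFinite S
  obtain ⟨m, hm⟩ := Char.isCharacter_classInner_nat (Char.isCharacter_restrict hχ S)
    (Char.trivialIrr S)
  refine ⟨m, ?_⟩
  rw [← hm, classInner, h.card, Fintype.sum_bijective _ hb (fun p => χ (coord e f p))
    (fun s : S => χ s) (fun p => rfl)]
  simp [Char.trivialIrr]

/-- The class size of a non-identity element of `S`. -/
theorem card_class (h : Nine S) {s : G} (hs : s ∈ S) (hs1 : s ≠ 1) :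
    9 * Nat.card {x : G // IsConj s x} = Nat.card G := by
  letI := Fintype.ofFinite G
  rw [Nat.card_eq_fintype_card, Fintype.card_subtype, mul_comm]
  have := Char.card_isConj_mul_card_centralizer s
  rw [h.cent s hs hs1, h.card] at this
  convert this using 3
  ext y; simp

/-- The number of ways of writing `v` as a product of two conjugates of `u`, when they are not
conjugate. -/
theorem card_pairs (h : Nine S) {e f : G} (he : e ∈ S) (hf : f ∈ S)
    (hb : Function.Bijective (fun p => (⟨coord e f p, coord_mem he hf p⟩ : S)))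
    (hinv : ∀ s ∈ S, IsConj s s⁻¹) (p₀ r : Fin 3 × Fin 3) (hr0 : r ≠ 0) (R : Fin 3 × Fin 3 → Prop)
    [DecidablePred R] (hR : ∀ p, IsConj (coord e f p₀) (coord e f p) ↔ R p) (hne : ¬ R r) :
    Nat.card {q : G × G // IsConj (coord e f p₀) q.1 ∧ IsConj (coord e f p₀) q.2 ∧
      q.1 * q.2 = coord e f r} =
    (Finset.univ.filter fun q : (Fin 3 × Fin 3) × (Fin 3 × Fin 3) =>
      R q.1 ∧ R q.2 ∧ q.1 + q.2 = r).card := by
  set u := coord e f p₀
  have hu3 : u ^ 3 = 1 := h.exp3 _ (coord_mem he hf p₀)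
  have hinj : Function.Injective (coord e f) := fun p q hpq => hb.1 (Subtype.ext hpq)
  have hv : coord e f r ∈ S := coord_mem he hf r
  have hv1 : coord e f r ≠ 1 := fun e' => hr0 (hinj (e'.trans (coord_zero e f).symm))
  have hpow : ∀ {x : G}, IsConj u x → x ^ 3 = 1 := fun hx => by
    obtain ⟨g, rfl⟩ := isConj_iff.1 hx
    rw [conj_pow, hu3, mul_one, mul_inv_cancel]
  rw [← Fintype.card_subtype, ← Nat.card_eq_fintype_card]
  symm
  refine Nat.card_eq_of_bijective
    (fun q => ⟨(coord e f q.1.1, coord e f q.1.2), (hR _).2 q.2.1, (hR _).2 q.2.2.1, by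
      rw [← coord_add h he hf]; exact congrArg _ q.2.2.2⟩) ⟨?_, ?_⟩
  · intro q q' hq
    simp only [Subtype.mk.injEq, Prod.mk.injEq] at hq
    exact Subtype.ext (Prod.ext (hinj hq.1) (hinj hq.2))
  · rintro ⟨⟨x, y⟩, hx, hy, hxy⟩
    dsimp only at hx hy hxy
    have hcom : Commute x y := by
      by_contra hnc
      have h3 : (x * y) ^ 3 = 1 := hxy ▸ h.exp3 _ hv
      have := h.triangle (hpow hx) (hpow hy) h3 hnc
      rw [hxy] at this
      exact hne ((hR r).1 ((hx.trans (h.real hinv (hpow hx))).trans this))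
    have hxS : x ∈ S := h.mem_of_commute hv hv1 (hxy ▸ (Commute.refl x).mul_right hcom)
    have hyS : y ∈ S := by
      rw [show y = x⁻¹ * coord e f r by rw [← hxy, inv_mul_cancel_left]]
      exact S.mul_mem (S.inv_mem hxS) hv
    obtain ⟨p, hp⟩ := hb.2 ⟨x, hxS⟩
    obtain ⟨q, hq⟩ := hb.2 ⟨y, hyS⟩
    have hp' : coord e f p = x := congrArg Subtype.val hp
    have hq' : coord e f q = y := congrArg Subtype.val hq
    refine ⟨⟨(p, q), (hR p).1 (hp' ▸ hx), (hR q).1 (hq' ▸ hy), hinj ?_⟩, ?_⟩
    · rw [coord_add h he hf, hp', hq', hxy]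
    · exact Subtype.ext (Prod.ext hp' hq')

/-- The class equation on `S`: every class meets `S \ {1}` in the same number of elements. -/
theorem orbit_card (h : Nine S) :
    ∃ m : ℕ, m * 9 = Nat.card (normalizer (S : Set G)) ∧ m ∣ 8 ∧
      ∀ s ∈ S, s ≠ 1 → Nat.card {t : S // IsConj s (t : G)} = m := by
  letI := Fintype.ofFinite S
  set N := normalizer (S : Set G)
  letI := Fintype.ofFinite N
  let O : S → Finset S := fun s => Finset.univ.filter fun t => IsConj (s : G) t
  have hO : ∀ s : S, s ≠ 1 → (O s).card * 9 = Nat.card N := by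
    intro s hs
    have hs1 : (s : G) ≠ 1 := fun e => hs (Subtype.ext e)
    let act : N → S := fun n => ⟨(n : G) * s * (n : G)⁻¹, (mem_normalizer_iff.1 n.2 s).1 s.2⟩
    have himg : Finset.univ.image act = O s := by
      ext t
      simp only [Finset.mem_image, Finset.mem_univ, true_and, O, Finset.mem_filter]
      refine ⟨?_, fun ht => ?_⟩
      · rintro ⟨n, rfl⟩; exact isConj_iff.2 ⟨n, rfl⟩
      · obtain ⟨g, hg⟩ := isConj_iff.1 ht
        exact ⟨⟨g, h.fusion s.2 hs1 (hg.symm ▸ t.2)⟩, Subtype.ext hg⟩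
    have hfib : ∀ t ∈ Finset.univ.image act,
        (Finset.univ.filter fun n => act n = t).card = 9 := by
      intro t ht
      obtain ⟨n₀, -, rfl⟩ := Finset.mem_image.1 ht
      rw [← h.card, Nat.card_eq_fintype_card, ← Fintype.card_subtype]
      have hiff : ∀ n : N, act n = act n₀ ↔ (n₀ : G)⁻¹ * n ∈ S := by
        intro n
        rw [show (n₀ : G)⁻¹ * n ∈ S ↔ (n₀ : G)⁻¹ * n ∈ centralizer ({(s : G)} : Set G) from
          (SetLike.ext_iff.1 (h.cent (s : G) s.2 hs1) _).symm, mem_centralizer_singleton_iff]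
        refine ⟨fun e => ?_, fun e => Subtype.ext ?_⟩
        · have e' : (n : G) * s * (n : G)⁻¹ = (n₀ : G) * s * (n₀ : G)⁻¹ := congrArg Subtype.val e
          calc (n₀ : G)⁻¹ * n * s = (n₀ : G)⁻¹ * ((n : G) * s * (n : G)⁻¹) * n := by group
            _ = _ := by rw [e']; group
        · show (n : G) * s * (n : G)⁻¹ = (n₀ : G) * s * (n₀ : G)⁻¹
          calc (n : G) * s * (n : G)⁻¹ = (n₀ : G) * ((n₀ : G)⁻¹ * n * s) * (n : G)⁻¹ := by group
            _ = _ := by rw [e]; group
      exact Fintype.card_congr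
        { toFun := fun n => ⟨(n₀ : G)⁻¹ * n.1, (hiff n.1).1 n.2⟩
          invFun := fun a => ⟨n₀ * ⟨a, le_normalizer a.2⟩, (hiff _).2 (by
            show (n₀ : G)⁻¹ * ((n₀ : G) * a) ∈ S
            rw [inv_mul_cancel_left]; exact a.2)⟩
          left_inv := fun n => Subtype.ext (Subtype.ext (by simp))
          right_inv := fun a => Subtype.ext (by simp) }
    have h1 := Finset.card_eq_sum_card_image act (Finset.univ : Finset N)
    rw [Finset.sum_congr rfl hfib, Finset.sum_const, smul_eq_mul, himg, Finset.card_univ,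
      ← Nat.card_eq_fintype_card] at h1
    exact h1.symm
  obtain ⟨s₀, hs₀⟩ : ∃ s : S, s ≠ 1 := by
    haveI : Nontrivial S := Finite.one_lt_card_iff_nontrivial.1 (by rw [h.card]; norm_num)
    exact exists_ne 1
  refine ⟨(O s₀).card, hO s₀ hs₀, ?_, fun s hs hs1 => ?_⟩
  · set T := (Finset.univ : Finset S).erase 1
    have hT : T.card = 8 := by
      rw [Finset.card_erase_of_mem (Finset.mem_univ _), Finset.card_univ,
        ← Nat.card_eq_fintype_card, h.card]
    have hfib : ∀ X ∈ T.image O, (T.filter fun t => O t = X).card = (O s₀).card := by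
      intro X hX
      obtain ⟨t, ht, rfl⟩ := Finset.mem_image.1 hX
      have ht1 : t ≠ 1 := Finset.ne_of_mem_erase ht
      have e : (T.filter fun t' => O t' = O t) = O t := by
        ext t'
        simp only [Finset.mem_filter, O, Finset.mem_univ, true_and]
        refine ⟨fun he => ?_, fun he => ⟨Finset.mem_erase.2 ⟨fun e => ht1 ?_, Finset.mem_univ _⟩, ?_⟩⟩
        · have hmem : t' ∈ O t := by
            show t' ∈ Finset.univ.filter _
            rw [← he.2]; exact Finset.mem_filter.2 ⟨Finset.mem_univ _, IsConj.refl _⟩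
          exact (Finset.mem_filter.1 hmem).2
        · rw [e] at he
          exact Subtype.ext (isConj_one_left.1 he)
        · ext t''
          simp only [Finset.mem_filter, Finset.mem_univ, true_and]
          exact ⟨fun h' => he.trans h', fun h' => he.symm.trans h'⟩
      rw [e]
      exact Nat.eq_of_mul_eq_mul_right (by norm_num : 0 < 9) ((hO t ht1).trans (hO s₀ hs₀).symm)
    have h1 := Finset.card_eq_sum_card_image O T
    rw [Finset.sum_congr rfl hfib, Finset.sum_const, smul_eq_mul, hT] at h1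
    exact Dvd.intro_left _ h1.symm
  · rw [Nat.card_eq_fintype_card, Fintype.card_subtype]
    exact Nat.eq_of_mul_eq_mul_right (by norm_num : 0 < 9)
      ((hO ⟨s, hs⟩ (fun e => hs1 (congrArg Subtype.val e))).trans (hO s₀ hs₀).symm)

end Cfsg.Agent.ThreeNine
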